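import Mathlib
import Cfsg.Agent.Lib.SL2.PSL

set_option autoImplicit false

/-!
The extensions `(K^2)^N ⋊ SL(2,K)` in characteristic two have the prime graph of `PSL(2,K)`.
-/

namespace CfsgLib.PrimeGraph

open Matrix
open scoped MatrixGroups

variable {K : Type*} [Field K]

/-- The module `(K^2)^N`, written multiplicatively. -/
abbrev Mod (K : Type*) (N : ℕ) := Multiplicative (Fin N → Fin 2 → K)

/-- The action of a matrix on each coordinate. -/
def modEquiv (N : ℕ) (g : SL(2, K)) : Mod K N ≃* Mod K N where
  toFun v := Multiplicative.ofAdd fun i => (g : Matrix (Fin 2) (Fin 2) K).mulVec (v.toAdd i)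
  invFun v :=
    Multiplicative.ofAdd fun i => ((g⁻¹ : SL(2, K)) : Matrix (Fin 2) (Fin 2) K).mulVec (v.toAdd i)
  left_inv v := by
    apply Multiplicative.toAdd.injective
    funext i
    simp only [toAdd_ofAdd, Matrix.mulVec_mulVec, ← Matrix.SpecialLinearGroup.coe_mul,
      inv_mul_cancel, Matrix.SpecialLinearGroup.coe_one, Matrix.one_mulVec]
  right_inv v := by
    apply Multiplicative.toAdd.injective
    funext i
    simp only [toAdd_ofAdd, Matrix.mulVec_mulVec, ← Matrix.SpecialLinearGroup.coe_mul,
      mul_inv_cancel, Matrix.SpecialLinearGroup.coe_one, Matrix.one_mulVec]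
  map_mul' u v := by
    apply Multiplicative.toAdd.injective
    funext i
    simp [Matrix.mulVec_add]

/-- The action as a homomorphism. -/
def modHom (K : Type*) [Field K] (N : ℕ) : SL(2, K) →* MulAut (Mod K N) where
  toFun := modEquiv N
  map_one' := by
    apply MulEquiv.ext
    intro v
    apply Multiplicative.toAdd.injective
    funext i
    simp [modEquiv]
  map_mul' g h := by
    apply MulEquiv.ext
    intro v
    apply Multiplicative.toAdd.injective
    funext i
    exact (Matrix.mulVec_mulVec (v.toAdd i) (g : Matrix (Fin 2) (Fin 2) K) (h : Matrix (Fin 2) (Fin 2) K)).symm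

/-- The extension. -/
abbrev Ext (K : Type*) [Field K] (N : ℕ) := Mod K N ⋊[modHom K N] SL(2, K)

theorem card_ext [Finite K] (N : ℕ) :
    Nat.card (Ext K N) = (Nat.card K ^ 2) ^ N * Nat.card SL(2, K) := by
  rw [SemidirectProduct.card]
  congr 1
  rw [Nat.card_congr Multiplicative.toAdd, Nat.card_fun, Nat.card_fun, Nat.card_fin, Nat.card_fin]

theorem sq_eq_one_of_fix [CharP K 2] (g : SL(2, K)) (v : Fin 2 → K) (hv : v ≠ 0)
    (h : (g : Matrix (Fin 2) (Fin 2) K).mulVec v = v) : g ^ 2 = 1 := by
  have hd : g 0 0 * g 1 1 - g 0 1 * g 1 0 = 1 := by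
    have := g.2
    rwa [Matrix.det_fin_two] at this
  have h0 : g 0 0 * v 0 + g 0 1 * v 1 = v 0 := by
    have := congrFun h 0
    simpa [Matrix.mulVec, dotProduct, Fin.sum_univ_two] using this
  have h1 : g 1 0 * v 0 + g 1 1 * v 1 = v 1 := by
    have := congrFun h 1
    simpa [Matrix.mulVec, dotProduct, Fin.sum_univ_two] using this
  have h2 : (2 : K) = 0 := CharTwo.two_eq_zero
  have htr : g 0 0 + g 1 1 = 0 := by
    have hne : v 0 ≠ 0 ∨ v 1 ≠ 0 := by
      by_contra hcon
      push Not at hcon
      exact hv (funext fun i => by fin_cases i <;> simp [hcon.1, hcon.2])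
    rcases hne with hne | hne
    · refine (mul_eq_zero.mp ?_).resolve_left hne
      linear_combination (-(g 1 1) + 1) * h0 + g 0 1 * h1 + v 0 * hd + v 0 * h2
    · refine (mul_eq_zero.mp ?_).resolve_left hne
      linear_combination g 1 0 * h0 + (-(g 0 0) + 1) * h1 + v 1 * hd + v 1 * h2
  have hsq : g 0 0 * g 0 0 + g 0 1 * g 1 0 = 1 := by
    linear_combination g 0 0 * htr - hd - h2
  rw [pow_two]
  apply Subtype.ext
  ext i j
  fin_cases i <;> fin_cases j <;>
    simp [Matrix.mul_apply, Fin.sum_univ_two]
  · linear_combination hsq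
  · linear_combination g 0 1 * htr
  · linear_combination g 1 0 * htr
  · linear_combination hsq + (g 1 1 - g 0 0) * htr

theorem ext_mod_sq [CharP K 2] (N : ℕ) (u : Mod K N) : u ^ 2 = 1 := by
  apply Multiplicative.toAdd.injective
  rw [toAdd_pow, toAdd_one, two_nsmul]
  funext i j
  exact CharTwo.add_self_eq_zero _

theorem exists_orderOf_ext_iff [CharP K 2] (N p q : ℕ) (hp : p.Prime) (hq : q.Prime) (hpq : p ≠ q) :
    (∃ g : Ext K N, orderOf g = p * q) ↔ (∃ g : SL(2, K), orderOf g = p * q) := by
  constructor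
  · rintro ⟨g, hg⟩
    refine ⟨g.right, ?_⟩
    have hdvd : orderOf g.right ∣ p * q := hg ▸ orderOf_map_dvd SemidirectProduct.rightHom g
    have hker : ∀ b : Ext K N, b.right = 1 → b ^ 2 = 1 := by
      intro b hb
      have e : b = SemidirectProduct.inl b.left := by
        ext
        · simp
        · simp [hb]
      rw [e, ← map_pow, ext_mod_sq, map_one]
    have hright : ∀ n : ℕ, (g ^ n).right = g.right ^ n := fun n =>
      map_pow SemidirectProduct.rightHom g n
    -- if the image has order `r`, a proper prime factor, then the other prime is two and fixes a vector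
    have key : ∀ r s : ℕ, r.Prime → s.Prime → r ≠ s → p * q = r * s → orderOf g.right = r → False := by
      intro r s hr hs hrs hprod hord
      have hb : (g ^ r).right = 1 := by rw [hright, ← hord, pow_orderOf_eq_one]
      have hb2 := hker _ hb
      rw [← pow_mul] at hb2
      have hd := orderOf_dvd_of_pow_eq_one hb2
      rw [hg, hprod] at hd
      have hs2 : s = 2 := (Nat.prime_dvd_prime_iff_eq hs Nat.prime_two).mp
        ((Nat.mul_dvd_mul_iff_left hr.pos).mp hd)
      subst hs2
      have hne : g ^ r ≠ 1 := by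
        intro h
        have := orderOf_dvd_of_pow_eq_one h
        rw [hg, hprod] at this
        have := Nat.le_of_dvd hr.pos this
        have := hr.two_le
        omega
      have hfix : modHom K N g.right (g ^ r).left = (g ^ r).left := by
        have hc : (g * g ^ r).left = (g ^ r * g).left := by rw [← pow_succ', ← pow_succ]
        rw [SemidirectProduct.mul_left, SemidirectProduct.mul_left, hb, map_one, MulAut.one_apply,
          mul_comm (g ^ r).left] at hc
        exact mul_left_cancel hc
      obtain ⟨i, hi⟩ : ∃ i, (g ^ r).left.toAdd i ≠ 0 := by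
        by_contra hcon
        push Not at hcon
        apply hne
        ext
        · rename_i j k
          simp [hcon j]
        · simp [hb]
      have hfi := congrFun (congrArg Multiplicative.toAdd hfix) i
      have hsq := sq_eq_one_of_fix g.right _ hi hfi
      have := orderOf_dvd_of_pow_eq_one hsq
      rw [hord] at this
      exact hrs ((Nat.prime_dvd_prime_iff_eq hr Nat.prime_two).mp this)
    obtain ⟨y, z, hy, hz, hyz⟩ := Nat.dvd_mul.mp hdvd
    rcases (Nat.dvd_prime hp).mp hy with rfl | rfl <;>
      rcases (Nat.dvd_prime hq).mp hz with rfl | rfl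
    · exfalso
      have hb : g.right = 1 := orderOf_eq_one_iff.mp hyz.symm
      have := orderOf_dvd_of_pow_eq_one (hker g hb)
      rw [hg] at this
      have := Nat.le_of_dvd two_pos this
      have := Nat.mul_le_mul hp.two_le hq.two_le
      omega
    · exact (key z p hq hp hpq.symm (mul_comm p z) (by rw [← hyz, one_mul])).elim
    · exact (key y q hp hq hpq rfl (by rw [← hyz, mul_one])).elim
    · exact hyz.symm
  · rintro ⟨g, hg⟩
    exact ⟨SemidirectProduct.inr g, by rw [orderOf_injective _ SemidirectProduct.inr_injective, hg]⟩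

theorem prime_dvd_card_ext_iff [Finite K] [CharP K 2] (N p : ℕ) (hp : p.Prime) :
    p ∣ Nat.card (Ext K N) ↔ p ∣ Nat.card SL(2, K) := by
  rw [card_ext]
  refine ⟨fun h => ?_, fun h => dvd_mul_of_dvd_right h _⟩
  rcases hp.dvd_mul.mp h with h | h
  · have h2 : p ∣ Nat.card K := hp.dvd_of_dvd_pow (hp.dvd_of_dvd_pow h)
    rw [CfsgLib.SL2.card_SL_two']
    exact dvd_mul_of_dvd_left h2 _
  · exact h

instance instFiniteExt [Finite K] (N : ℕ) : Finite (Ext K N) :=
  Finite.of_equiv _ SemidirectProduct.equivProd.symm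

theorem lt_card_ext [Finite K] (N : ℕ) : N < Nat.card (Ext K N) := by
  rw [card_ext]
  have h1 : N < (Nat.card K ^ 2) ^ N := Nat.lt_pow_self (by
    have : 1 < Nat.card K := Finite.one_lt_card
    exact lt_of_lt_of_le this (Nat.le_self_pow two_ne_zero _))
  exact lt_of_lt_of_le h1 (Nat.le_mul_of_pos_right _ Nat.card_pos)

theorem proj_bijective [Finite K] [CharP K 2] :
    Function.Bijective (CfsgLib.SL2.proj : SL(2, K) → ProjectiveSpecialLinearGroup (Fin 2) K) := by
  refine ⟨(injective_iff_map_eq_one _).mpr fun g hg => ?_, CfsgLib.SL2.proj_surjective⟩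
  have h1 := (CfsgLib.SL2.proj_eq_one_iff g).mp hg
  rcases CfsgLib.SL2.eq_one_or_eq_neg_one_of_mem_center _ h1 with e | e
  · exact e
  · rw [e]
    apply Subtype.ext
    ext i j
    simp [CharTwo.neg_eq]

/-- Groups of arbitrarily large order, in the bottom universe, with the prime graph of `PSL(2,K)`. -/
theorem exists_same_graph [Finite K] [CharP K 2] (N : ℕ) :
    ∃ (H : Type) (_ : Group H) (_ : Finite H), N < Nat.card H ∧
      ((∀ p : ℕ, p.Prime →
          (p ∣ Nat.card (ProjectiveSpecialLinearGroup (Fin 2) K) ↔ p ∣ Nat.card H)) ∧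
      (∀ p q : ℕ, p.Prime → q.Prime → p ≠ q →
          ((∃ g : ProjectiveSpecialLinearGroup (Fin 2) K, orderOf g = p * q) ↔
            (∃ g : H, orderOf g = p * q)))) := by
  let T := {i : Fin (Nat.card (Ext K N)) // True}
  let e : T ≃ Ext K N :=
    (Equiv.subtypeUnivEquiv fun _ => trivial).trans (Finite.equivFin (Ext K N)).symm
  letI G : Group T := e.group
  let me : T ≃* Ext K N := { e with map_mul' := fun a b => e.apply_symm_apply _ }
  let ps : SL(2, K) ≃* ProjectiveSpecialLinearGroup (Fin 2) K :=
    MulEquiv.ofBijective CfsgLib.SL2.proj proj_bijective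
  refine ⟨T, G, inferInstanceAs (Finite {i : Fin (Nat.card (Ext K N)) // True}), ?_, fun p hp => ?_,
    fun p q hp hq hpq => ?_⟩
  · rw [Nat.card_congr me.toEquiv]; exact lt_card_ext N
  · rw [Nat.card_congr me.toEquiv, prime_dvd_card_ext_iff N p hp, Nat.card_congr ps.toEquiv]
  · constructor
    · rintro ⟨g, hg⟩
      obtain ⟨a, ha⟩ := (exists_orderOf_ext_iff (K := K) N p q hp hq hpq).mpr
        ⟨ps.symm g, by rw [MulEquiv.orderOf_eq, hg]⟩
      exact ⟨me.symm a, by rw [MulEquiv.orderOf_eq, ha]⟩
    · rintro ⟨g, hg⟩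
      obtain ⟨a, ha⟩ := (exists_orderOf_ext_iff (K := K) N p q hp hq hpq).mp
        ⟨me g, by rw [MulEquiv.orderOf_eq, hg]⟩
      exact ⟨ps a, by rw [MulEquiv.orderOf_eq, ha]⟩

end CfsgLib.PrimeGraph
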